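import Mathlib

/-!
Over a reduced locally Noetherian base, the fibres of a flat scheme are scheme-theoretically dense.
-/

set_option autoImplicit false
universe u

open CategoryTheory CategoryTheory.Limits AlgebraicGeometry TensorProduct

namespace FibSepLib

/-- If `A` embeds in a finite product of algebras and `B` is flat, then `B` embeds in the product of
the base changes. -/
theorem eq_zero_of_tmul_one_eq_zero {A B : Type u} [CommRing A] [CommRing B] [Algebra A B]
    [Module.Flat A B] {ι : Type u} [Finite ι] (K : ι → Type u) [∀ i, CommRing (K i)]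
    [∀ i, Algebra A (K i)] (hA : ∀ a : A, (∀ i, algebraMap A (K i) a = 0) → a = 0)
    {b : B} (hb : ∀ i, b ⊗ₜ[A] (1 : K i) = 0) : b = 0 := by
  classical
  haveI := Fintype.ofFinite ι
  have hinj : Function.Injective (Algebra.linearMap A (∀ i, K i)) := by
    refine (injective_iff_map_eq_zero _).mpr fun a ha ↦ hA a fun i ↦ ?_
    exact congrFun ha i
  have h2 := Module.Flat.lTensor_preserves_injective_linearMap (M := B)
    (Algebra.linearMap A (∀ i, K i)) hinj
  have h3 : (Algebra.linearMap A (∀ i, K i)).lTensor B (b ⊗ₜ[A] (1 : A)) = 0 := by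
    apply (TensorProduct.piRight A A B K).injective
    rw [map_zero, LinearMap.lTensor_tmul, TensorProduct.piRight_apply, Algebra.linearMap_apply,
      map_one]
    funext i
    simpa using hb i
  have h4 : b ⊗ₜ[A] (1 : A) = 0 := h2 (by rw [h3, map_zero])
  simpa using congrArg (TensorProduct.rid A B) h4

/-- An ideal sheaf on a flat scheme over a reduced locally Noetherian base that vanishes on all fibres
is zero. -/
theorem eq_bot_of_forall_comap_fibre {Z T : Scheme.{u}} [IsLocallyNoetherian T]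
    [AlgebraicGeometry.IsReduced T] (g : Z ⟶ T) [Flat g] (J : Z.IdealSheafData)
    (h : ∀ t : ↥T, J.comap (pullback.fst g (T.fromSpecResidueField t)) = ⊥) : J = ⊥ := by
  classical
  let ιT := {p : Z.affineOpens × T.affineOpens // p.1.1 ≤ g ⁻¹ᵁ p.2.1}
  refine le_bot_iff.mp (Scheme.IdealSheafData.le_of_iSup_eq_top (fun p : ιT ↦ p.1.1) ?_ ?_)
  · refine eq_top_iff.mpr fun x _ ↦ ?_
    obtain ⟨V, hV, hxV, -⟩ := exists_isAffineOpen_mem_and_subset (x := g x) (U := ⊤) trivial
    obtain ⟨U, hU, hxU, hUV⟩ := exists_isAffineOpen_mem_and_subset (x := x) (U := g ⁻¹ᵁ V) hxV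
    exact TopologicalSpace.Opens.mem_iSup.mpr ⟨⟨(⟨U, hU⟩, ⟨V, hV⟩), hUV⟩, hxU⟩
  rintro ⟨⟨⟨U, hU⟩, ⟨V, hV⟩⟩, e⟩ b hb
  dsimp at e hb ⊢
  rw [Submodule.mem_bot]
  letI : Algebra Γ(T, V) Γ(Z, U) := (g.appLE V U e).hom.toAlgebra
  haveI : Module.Flat Γ(T, V) Γ(Z, U) :=
    HasRingHomProperty.appLE @Flat g inferInstance ⟨V, hV⟩ ⟨U, hU⟩ e
  haveI : IsNoetherianRing Γ(T, V) := IsLocallyNoetherian.component_noetherian ⟨V, hV⟩
  haveI : _root_.IsReduced Γ(T, V) := IsReduced.component_reduced V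
  let q : minimalPrimes Γ(T, V) → Spec Γ(T, V) := fun p ↦ ⟨p.1, p.2.1.1⟩
  let t : minimalPrimes Γ(T, V) → ↥T := fun p ↦ hV.fromSpec (q p)
  have htV : ∀ p, t p ∈ V := fun p ↦ hV.range_fromSpec.subset ⟨q p, rfl⟩
  haveI : Finite (minimalPrimes Γ(T, V)) :=
    (minimalPrimes.finite_of_isNoetherianRing Γ(T, V)).to_subtype
  letI : ∀ p, Algebra Γ(T, V) (T.residueField (t p)) := fun p ↦
    (T.evaluation V (t p) (htV p)).hom.toAlgebra
  refine eq_zero_of_tmul_one_eq_zero (A := Γ(T, V)) (B := Γ(Z, U)) (fun p ↦ T.residueField (t p)) (fun a ha ↦ ?_) (fun p ↦ ?_)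
  · refine IsReduced.eq_zero _ ?_
    rw [← mem_nilradical, nilradical_eq_sInf, Ideal.mem_sInf]
    intro P hP
    haveI : P.IsPrime := hP
    obtain ⟨p, hp, hpP⟩ := Ideal.exists_minimalPrimes_le (bot_le : (⊥ : Ideal Γ(T, V)) ≤ P)
    refine hpP ?_
    have h1 : t ⟨p, hp⟩ ∉ T.basicOpen a := (T.evaluation_eq_zero_iff_notMem_basicOpen _ _ _).mp (ha ⟨p, hp⟩)
    by_contra hap
    refine h1 ?_
    change q ⟨p, hp⟩ ∈ hV.fromSpec ⁻¹ᵁ T.basicOpen a
    rw [hV.fromSpec_preimage_basicOpen]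
    exact hap
  · let iL : Γ(Z, U) ⟶ CommRingCat.of (Γ(Z, U) ⊗[Γ(T, V)] T.residueField (t p)) :=
      CommRingCat.ofHom Algebra.TensorProduct.includeLeftRingHom
    let iR : T.residueField (t p) ⟶ CommRingCat.of (Γ(Z, U) ⊗[Γ(T, V)] T.residueField (t p)) :=
      CommRingCat.ofHom (Algebra.TensorProduct.includeRight (R := Γ(T, V)) (A := Γ(Z, U))
        (B := T.residueField (t p))).toRingHom
    have hsq : g.appLE V U e ≫ iL = T.evaluation V (t p) (htV p) ≫ iR := by
      ext a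
      change (algebraMap Γ(T, V) Γ(Z, U) a) ⊗ₜ[Γ(T, V)] (1 : T.residueField (t p)) =
        (1 : Γ(Z, U)) ⊗ₜ[Γ(T, V)] (algebraMap Γ(T, V) (T.residueField (t p)) a)
      rw [Algebra.algebraMap_eq_smul_one, Algebra.algebraMap_eq_smul_one, TensorProduct.smul_tmul]
    have hev : Spec.map (T.evaluation V (t p) (htV p)) ≫ hV.fromSpec =
        T.fromSpecResidueField (t p) := by
      rw [Scheme.evaluation, Spec.map_comp, Category.assoc]
      exact congrArg (Spec.map (T.residue (t p)) ≫ ·) (hV.fromSpecStalk_eq_fromSpecStalk (htV p))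
    have hcomm : (Spec.map iL ≫ hU.fromSpec) ≫ g =
        Spec.map iR ≫ T.fromSpecResidueField (t p) := by
      rw [Category.assoc, ← hV.SpecMap_appLE_fromSpec g hU e, ← hev, ← Category.assoc,
        ← Category.assoc, ← Spec.map_comp, ← Spec.map_comp, hsq]
    have h2 : J.comap (Spec.map iL ≫ hU.fromSpec) = ⊥ := by
      rw [← pullback.lift_fst (Spec.map iL ≫ hU.fromSpec) (Spec.map iR) hcomm,
        Scheme.IdealSheafData.comap_comp, h, Scheme.IdealSheafData.comap_bot]
    have h3 : J ≤ (Spec.map iL ≫ hU.fromSpec).ker := by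
      rw [← Scheme.IdealSheafData.map_bot]
      exact Scheme.IdealSheafData.le_map_iff_comap_le.mpr h2.le
    have h4 : (Spec.map iL ≫ hU.fromSpec).app U b = 0 :=
      (Scheme.Hom.ideal_ker_le _ ⟨U, hU⟩) (h3 ⟨U, hU⟩ hb)
    have hle : (⊤ : (Spec (CommRingCat.of (Γ(Z, U) ⊗[Γ(T, V)] T.residueField (t p)))).Opens) ≤
        (Spec.map iL ≫ hU.fromSpec) ⁻¹ᵁ U :=
      fun x _ ↦ hU.range_fromSpec.subset ⟨Spec.map iL x, rfl⟩
    have h5 : (Spec.map iL ≫ hU.fromSpec).appLE U ⊤ hle =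
        iL ≫ (Scheme.ΓSpecIso _).inv := by
      rw [Scheme.Hom.comp_appLE, hU.fromSpec_app_self, Scheme.ΓSpecIso_inv_naturality]
      simp only [Category.assoc]
      congr 1
    have h6 : (iL ≫ (Scheme.ΓSpecIso _).inv) b = 0 := by
      rw [← h5, Scheme.Hom.appLE]
      simp only [CommRingCat.comp_apply, h4, map_zero]
    have h7 := congrArg (Scheme.ΓSpecIso _).hom h6
    rw [map_zero, CommRingCat.comp_apply, Iso.inv_hom_id_apply] at h7
    exact h7

end FibSepLib
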